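import Groth.Agent.BlowUpExist.Global
import Groth.Agent.ModPairFrac.Prod
import Groth.Prelude.Def_W4c6modpairsegaMP

/-!
# Dividing ideal sheaves by effective Cartier ideals
-/

set_option autoImplicit false
set_option backward.isDefEq.respectTransparency false
set_option linter.style.haveILetI false

universe u

open CategoryTheory AlgebraicGeometry Limits TopologicalSpace

namespace Groth.Agent.ModPairProd

open ModPairFrac BlowUpLib

variable {X : Scheme.{u}}

theorem mul_cancel {K L E : X.IdealSheafData} (hE : BlowUp.IsEffCartierIdeal E) (h : K * E = L * E) : K = L :=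
  le_antisymm (le_of_mul_le_mul hE h.le) (le_of_mul_le_mul hE h.ge)

theorem exists_div_affine [IsAffine X] {I E : X.IdealSheafData} (g : Γ(X, ⊤))
    (hg : E.ideal ⟨⊤, isAffineOpen_top X⟩ = Ideal.span {g}) (h : I ≤ E) :
    ∃ L : X.IdealSheafData, L * E = I := by
  let J : Ideal Γ(X, ⊤) := (I.ideal ⟨⊤, isAffineOpen_top X⟩).colon {g}
  refine ⟨Scheme.IdealSheafData.ofIdealTop J, (Scheme.IdealSheafData.equivOfIsAffine (X := X)).injective ?_⟩
  show (Scheme.IdealSheafData.ofIdealTop J * E).ideal ⟨⊤, isAffineOpen_top X⟩ =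
    I.ideal ⟨⊤, isAffineOpen_top X⟩
  rw [Scheme.IdealSheafData.ideal_mul, Pi.mul_apply, hg,
    show (Scheme.IdealSheafData.ofIdealTop J).ideal ⟨⊤, isAffineOpen_top X⟩ = J from
      (Scheme.IdealSheafData.equivOfIsAffine (X := X)).apply_symm_apply J]
  ext z
  rw [Ideal.mem_mul_span_singleton]
  constructor
  · rintro ⟨y, hy, rfl⟩
    simpa using (Submodule.mem_colon_singleton.1 hy)
  · intro hz
    obtain ⟨y, rfl⟩ := Ideal.mem_span_singleton'.1 (hg ▸ h ⟨⊤, isAffineOpen_top X⟩ hz)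
    exact ⟨y, Submodule.mem_colon_singleton.2 (by simpa using hz), rfl⟩

theorem exists_div {I E : X.IdealSheafData} (hE : BlowUp.IsEffCartierIdeal E) (h : I ≤ E) :
    ∃ L : X.IdealSheafData, L * E = I := by
  choose U hU g hg he using hE
  let 𝒰 : X.OpenCover := Scheme.AffineOpenCover.openCover
    { I₀ := X
      X := fun x => Γ(X, (U x).1)
      f := fun x => (U x).2.fromSpec
      idx := fun x => x
      covers := fun x => by
        show x ∈ Set.range _
        rw [(U x).2.range_fromSpec]; exact hU x }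
  have hloc : ∀ i : 𝒰.I₀, ∃ L : (𝒰.X i).IdealSheafData, L * E.comap (𝒰.f i) = I.comap (𝒰.f i) := by
    intro (x : X)
    refine exists_div_affine (X := Spec Γ(X, (U x).1))
      ((Scheme.ΓSpecIso Γ(X, (U x).1)).inv.hom (g x)) ?_ (Scheme.IdealSheafData.comap_mono _ h)
    show (E.comap (U x).2.fromSpec).ideal ⟨⊤, isAffineOpen_top _⟩ = _
    rw [BlowUpExist.ideal_comap_fromSpec, he, Ideal.map_span, Set.image_singleton]
  choose L hL using hloc
  have hE' : BlowUp.IsEffCartierIdeal E := fun x => ⟨U x, hU x, g x, hg x, he x⟩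
  have hmem : Presieve.ofArrows 𝒰.X 𝒰.f ∈ Scheme.fpqcPrecoverage X :=
    Scheme.zariskiPrecoverage_le_fpqcPrecoverage X 𝒰.mem₀
  obtain ⟨J, hJ, -⟩ := FpqcDescent.existsUnique_descent hmem L fun i k => by
    refine mul_cancel (E := E.comap (pullback.fst (𝒰.f i) (𝒰.f k) ≫ 𝒰.f i))
      (cartier_comap_flat hE' _) ?_
    rw [Scheme.IdealSheafData.comap_comp E, ← comap_mul, hL, ← Scheme.IdealSheafData.comap_comp]
    conv_rhs => rw [← Scheme.IdealSheafData.comap_comp E, pullback.condition,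
      Scheme.IdealSheafData.comap_comp E, ← comap_mul, hL, ← Scheme.IdealSheafData.comap_comp]
    rw [pullback.condition]
  refine ⟨J, le_antisymm (ModPairCoprod.le_of_cover 𝒰 fun i => ?_) (ModPairCoprod.le_of_cover 𝒰 fun i => ?_)⟩
  · rw [comap_mul, hJ, hL]
  · rw [comap_mul, hJ, hL]

/-- the quotient of two comparable divisors, with the disjointness -/
theorem exists_quotient {I₁ I₂ : X.IdealSheafData} (h₁ : BlowUp.IsEffCartierIdeal I₁)
    (h₂ : BlowUp.IsEffCartierIdeal I₂) (hE : BlowUp.IsEffCartierIdeal (I₁ ⊔ I₂)) :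
    ∃ I₁' I₂' : X.IdealSheafData, BlowUp.IsEffCartierIdeal I₁' ∧ BlowUp.IsEffCartierIdeal I₂' ∧
      I₁ = I₁' * (I₁ ⊔ I₂) ∧ I₂ = I₂' * (I₁ ⊔ I₂) ∧ I₁' ⊔ I₂' = ⊤ ∧
      ∀ D : X.IdealSheafData, BlowUp.IsEffCartierIdeal D → D ≤ I₁ → D ≤ I₂ → D ≤ I₁' * I₂' * (I₁ ⊔ I₂) := by
  obtain ⟨A, hA⟩ := exists_div hE (le_sup_left : I₁ ≤ I₁ ⊔ I₂)
  obtain ⟨B, hB⟩ := exists_div hE (le_sup_right : I₂ ≤ I₁ ⊔ I₂)
  have htop : A ⊔ B = ⊤ := by
    refine mul_cancel hE ?_
    refine Scheme.IdealSheafData.ext ?_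
    funext U
    have e1 := congrArg (fun K : X.IdealSheafData => K.ideal U) hA
    have e2 := congrArg (fun K : X.IdealSheafData => K.ideal U) hB
    simp only [Scheme.IdealSheafData.ideal_mul, Scheme.IdealSheafData.ideal_sup,
      Scheme.IdealSheafData.ideal_top, Pi.mul_apply, Pi.sup_apply, Pi.top_apply] at e1 e2 ⊢
    rw [Ideal.sup_mul, e1, e2, Ideal.top_mul]
  refine ⟨A, B, cartier_of_mul_left (hA.symm ▸ h₁), cartier_of_mul_left (hB.symm ▸ h₂), hA.symm, hB.symm,
    htop, fun D hD hD₁ hD₂ => ?_⟩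
  obtain ⟨D', hD'⟩ := exists_div hE (hD₁.trans le_sup_left)
  have h1 : D' ≤ A := le_of_mul_le_mul hE (by rw [hA, hD']; exact hD₁)
  have h2 : D' ≤ B := le_of_mul_le_mul hE (by rw [hB, hD']; exact hD₂)
  rw [← hD']
  intro U
  have ht : A.ideal U ⊔ B.ideal U = ⊤ := by
    have := congrArg (fun K : X.IdealSheafData => K.ideal U) htop
    simpa [Scheme.IdealSheafData.ideal_sup, Scheme.IdealSheafData.ideal_top] using this
  simp only [Scheme.IdealSheafData.ideal_mul, Pi.mul_apply]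
  refine Ideal.mul_mono_left ?_
  rw [Ideal.mul_eq_inf_of_coprime ht]
  exact le_inf (h1 U) (h2 U)

end Groth.Agent.ModPairProd
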