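import Groth.Agent.ModPairFrac.Prod

/-!
# Admissible blow-ups: base change, and splitting along a decomposition of the interior
-/

set_option autoImplicit false
set_option backward.isDefEq.respectTransparency false
set_option linter.style.haveILetI false

universe u

open CategoryTheory AlgebraicGeometry Limits TopologicalSpace

namespace Groth.Agent.ModPairProd

open ModPairFrac BlowUpLib ModPair

variable {X Y S T : Scheme.{u}}

/-- the box over an admissible blow-up -/
theorem adm_baseChange (IS : S.IdealSheafData) (IT : T.IdealSheafData) (IX : X.IdealSheafData)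
    (hT : BlowUp.IsEffCartierIdeal IT) (hX : BlowUp.IsEffCartierIdeal IX) (g : T ⟶ S)
    (hg : IsAmbient IT IS g) (s : X ⟶ S) (hs : IsAdmBlowup IX IS s) :
    BlowUp.IsEffCartierIdeal (IT.comap (mprodι s g IX IT ≫ pullback.snd s g)) ∧
      IsAdmBlowup (IT.comap (mprodι s g IX IT ≫ pullback.snd s g)) IT (mprodι s g IX IT ≫ pullback.snd s g) ∧
      IsAmbient (IT.comap (mprodι s g IX IT ≫ pullback.snd s g)) IX (mprodι s g IX IT ≫ pullback.fst s g) := by
  obtain ⟨h1, h2, h3⟩ := hs
  have e : prodInterior s g IX IT = pullback.snd s g ⁻¹ᵁ interior IT := by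
    refine inf_eq_right.2 ?_
    rw [preimage_interior h1, ← Scheme.Hom.comp_preimage, pullback.condition, Scheme.Hom.comp_preimage]
    exact fun z hz => interior_le_preimage hg hz
  refine ⟨(cartier_mprod s g hX hT).2, ⟨rfl, ?_, ?_⟩, ?_⟩
  · haveI : IsProper (pullback.snd s g) := MorphismProperty.pullback_snd _ _ h2
    infer_instance
  · rw [morphismRestrict_comp]
    haveI hι : IsIso (mprodι s g IX IT ∣_ pullback.snd s g ⁻¹ᵁ interior IT) := by
      rw [← e]
      exact isIso_restrict _ _ _ (Scheme.Hom.toImage_imageι _)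
    haveI hp : IsIso (pullback.snd s g ∣_ interior IT) := by
      let V := interior IT
      have hsub : Set.range (V.ι ≫ g) ⊆ Set.range (interior IS).ι := by
        rintro _ ⟨x, rfl⟩
        rw [Scheme.Opens.range_ι]
        exact interior_le_preimage hg x.2
      let v := IsOpenImmersion.lift (interior IS).ι (V.ι ≫ g) hsub
      have hv : v ≫ (interior IS).ι = V.ι ≫ g := IsOpenImmersion.lift_fac _ _ _
      let p₁ := pullback.snd s g
      have hbig : IsPullback ((p₁ ⁻¹ᵁ V).ι ≫ pullback.fst s g) (p₁ ∣_ V) s (v ≫ (interior IS).ι) := by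
        rw [hv]
        exact (isPullback_morphismRestrict p₁ V).flip.paste_horiz (IsPullback.of_hasPullback s g)
      have hs' := (isPullback_morphismRestrict s (interior IS)).flip
      let a := hs'.lift ((p₁ ⁻¹ᵁ V).ι ≫ pullback.fst s g) ((p₁ ∣_ V) ≫ v) (by rw [hbig.w, Category.assoc])
      have h4 : IsPullback a (p₁ ∣_ V) (s ∣_ interior IS) v :=
        IsPullback.of_right (by rw [hs'.lift_fst]; exact hbig) (hs'.lift_snd _ _ _) hs'
      exact MorphismProperty.of_isPullback (P := MorphismProperty.isomorphisms _) h4 h3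
    infer_instance
  · show _ ≤ _
    rw [h1, ← Scheme.IdealSheafData.comap_comp, Category.assoc, pullback.condition, ← Category.assoc,
      Scheme.IdealSheafData.comap_comp IS _ g]
    exact Scheme.IdealSheafData.comap_mono _ hg

theorem ker_toImage (f : X ⟶ Y) : f.toImage.ker = ⊥ := by
  let k := f.toImage.imageι ≫ f.imageι
  have h : k.ker ≤ f.imageι.ker := by
    rw [Scheme.IdealSheafData.ker_subschemeι]
    have := f.toImage.toImage.le_ker_comp k
    rwa [Scheme.Hom.toImage_imageι_assoc, Scheme.Hom.toImage_imageι] at this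
  let l := IsClosedImmersion.lift k f.imageι h
  have hl : l ≫ f.toImage.imageι = 𝟙 _ := by
    rw [← cancel_mono f.imageι, Category.assoc, IsClosedImmersion.lift_fac, Category.id_comp]
  haveI : IsSplitEpi f.toImage.imageι := IsSplitEpi.mk' ⟨l, hl⟩
  haveI : IsIso f.toImage.imageι := isIso_of_mono_of_isSplitEpi _
  rw [← Scheme.IdealSheafData.ker_subschemeι f.toImage.ker]
  exact Scheme.Hom.ker_eq_bot_of_isIso _

theorem cartier_image (I : Y.IdealSheafData) (hI : BlowUp.IsEffCartierIdeal I) (U : Y.Opens)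
    (hU : U ≤ interior I) : BlowUp.IsEffCartierIdeal (I.comap U.ι.imageι) := by
  let V := U.ι.imageι ⁻¹ᵁ interior I
  have hr : Set.range U.ι.toImage ⊆ Set.range V.ι := by
    rintro _ ⟨x, rfl⟩
    rw [Scheme.Opens.range_ι]
    show U.ι.imageι (U.ι.toImage x) ∈ interior I
    rw [← Scheme.Hom.comp_apply, Scheme.Hom.toImage_imageι]
    exact hU x.2
  have hker : V.ι.ker = ⊥ := by
    have := (IsOpenImmersion.lift V.ι U.ι.toImage hr).le_ker_comp V.ι
    rw [IsOpenImmersion.lift_fac, ker_toImage] at this
    exact le_bot_iff.1 this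
  haveI : IsSchemeTheoreticallyDominant V.ι := ⟨hker⟩
  exact cartier_of_schDominant I hI _

theorem image_disjoint {U W : Y.Opens} (hd : Disjoint U W) [QuasiCompact U.ι] (x : U.ι.image) :
    U.ι.imageι x ∉ W := by
  intro hx
  have h1 : U.ι.imageι x ∈ closure (Set.range U.ι) := by
    rw [← Scheme.Hom.support_ker U.ι]
    exact x.2
  obtain ⟨y, hyW, z, rfl⟩ := mem_closure_iff.1 h1 W W.isOpen hx
  exact hd.le_bot ⟨z.2, hyW⟩

theorem quasiCompact_part (I : Y.IdealSheafData) (hI : BlowUp.IsEffCartierIdeal I) (U₀ U₁ : Y.Opens)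
    (hU : U₀ ⊔ U₁ = interior I) (hd : Disjoint U₀ U₁) : QuasiCompact U₀.ι := by
  have hle : U₀ ≤ interior I := hU ▸ le_sup_left
  haveI : QuasiCompact (interior I).ι := AlmostBlow.quasiCompact_awayFrom_ι (isLocPrincipal_of_cartier hI)
  haveI : IsClosedImmersion (Y.homOfLE hle) := by
    refine IsClosedImmersion.of_isPreimmersion _ ⟨?_⟩
    have : (Set.range (Y.homOfLE hle))ᶜ = (interior I).ι ⁻¹' (U₁ : Set Y) := by
      ext ⟨z, hz⟩
      constructor
      · intro hn
        rcases (hU ▸ hz : z ∈ U₀ ⊔ U₁) with h | h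
        · exact absurd ⟨⟨z, h⟩, Subtype.ext (by simp [Scheme.homOfLE_apply])⟩ hn
        · exact h
      · rintro h ⟨w, hw⟩
        have := congrArg Subtype.val hw
        simp only [Scheme.homOfLE_apply] at this
        exact hd.le_bot ⟨this ▸ w.2, h⟩
    rw [this]
    exact U₁.isOpen.preimage (interior I).ι.continuous
  rw [← Y.homOfLE_ι hle]
  infer_instance

end Groth.Agent.ModPairProd
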