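import Groth.Agent.ModPairProd.Div
import Groth.Agent.BlowUpExist.Proper

/-!
# Existence and properties of ambient products
-/

set_option autoImplicit false
set_option backward.isDefEq.respectTransparency false
set_option linter.style.haveILetI false

universe u

open CategoryTheory AlgebraicGeometry Limits TopologicalSpace

namespace Groth.Agent.ModPairProd

open ModPairFrac BlowUpLib ModPair

variable {X : Scheme.{u}}

/-- divisor `D_A + D_B - E` -/
theorem exists_lcm {A B : X.IdealSheafData} (hE : BlowUp.IsEffCartierIdeal (A ⊔ B)) :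
    ∃ K : X.IdealSheafData, K * (A ⊔ B) = A * B := by
  obtain ⟨A', hA'⟩ := exists_div hE (le_sup_left : A ≤ A ⊔ B)
  refine ⟨A' * B, Scheme.IdealSheafData.ext ?_⟩
  funext U
  have e := congrArg (fun K : X.IdealSheafData => K.ideal U) hA'
  simp only [Scheme.IdealSheafData.ideal_mul, Pi.mul_apply] at e ⊢
  rw [mul_right_comm, e]

theorem locallyFG_sup {A B : X.IdealSheafData} (hA : BlowUp.IsEffCartierIdeal A)
    (hB : BlowUp.IsEffCartierIdeal B) (x : X) : ∃ U : X.affineOpens, x ∈ U.1 ∧ ((A ⊔ B).ideal U).FG := by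
  obtain ⟨U, hxU, f, hf, he⟩ := hA x
  obtain ⟨V, hxV, hVU, g, -, hg⟩ := exists_small_generator hB hxU
  obtain ⟨f', -, hf'⟩ := exists_generator_of_le A (show V ≤ U from hVU) hf he
  refine ⟨V, hxV, ?_⟩
  rw [Scheme.IdealSheafData.ideal_sup, Pi.sup_apply, hf', hg]
  exact Submodule.FG.sup ⟨{f'}, by simp⟩ ⟨{g}, by simp⟩

variable {S T Y : Scheme.{u}} {J : T.IdealSheafData} {I : X.IdealSheafData} (f : X ⟶ S) (g : T ⟶ S)

theorem exists_ambProd (hT : BlowUp.IsEffCartierIdeal J) (hX : BlowUp.IsEffCartierIdeal I) :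
    ∃ (Y : Scheme.{u}) (π : Y ⟶ mprod f g I J) (K : Y.IdealSheafData), IsAmbProd f g I J π K := by
  obtain ⟨Y, π, hπ⟩ := BlowUpExist.exists_isBlowUp _ (prodCentre f g I J)
  have hE := hπ.1
  rw [prodCentre, Scheme.IdealSheafData.comap_sup] at hE
  obtain ⟨K, hK⟩ := exists_lcm hE
  refine ⟨Y, π, K, hπ, ?_⟩
  rw [prodCentre, Scheme.IdealSheafData.comap_sup]
  exact hK

theorem isProper_ambProd (hT : BlowUp.IsEffCartierIdeal J) (hX : BlowUp.IsEffCartierIdeal I)
    (π : Y ⟶ mprod f g I J) (hb : BlowUp.IsBlowUp π (prodCentre f g I J)) : IsProper π :=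
  BlowUpExist.isProper_of_isBlowUp hb (locallyFG_sup (cartier_mprod f g hX hT).1 (cartier_mprod f g hX hT).2)

theorem snd_props (hT : BlowUp.IsEffCartierIdeal J) (hX : BlowUp.IsEffCartierIdeal I)
    (π : Y ⟶ mprod f g I J) (hb : BlowUp.IsBlowUp π (prodCentre f g I J)) :
    ((LocallyOfFiniteType f ∧ QuasiCompact f) →
      LocallyOfFiniteType (π ≫ mprodι f g I J ≫ pullback.snd f g) ∧
        QuasiCompact (π ≫ mprodι f g I J ≫ pullback.snd f g)) ∧
    (UniversallyClosed f → UniversallyClosed (π ≫ mprodι f g I J ≫ pullback.snd f g)) ∧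
    (IsProper f → IsProper (π ≫ mprodι f g I J ≫ pullback.snd f g)) := by
  haveI := isProper_ambProd f g hT hX π hb
  refine ⟨fun h => ?_, fun h => ?_, fun h => ?_⟩
  · haveI := h.1; haveI := h.2
    constructor <;> infer_instance
  · infer_instance
  · infer_instance

end Groth.Agent.ModPairProd
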