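import Mathlib.CategoryTheory.Localization.CalculusOfFractions
import Mathlib.CategoryTheory.Limits.Shapes.Pullback.IsPullback.Basic

/-!
# Pullback squares in a localization with a right calculus of fractions
-/

set_option autoImplicit false

universe v u v' u'

open CategoryTheory Limits

namespace Groth.Agent.ModPairProd

variable {C : Type u} [Category.{v} C] {D : Type u'} [Category.{v'} D] (L : C ⥤ D)
  (W : MorphismProperty C) [L.IsLocalization W] [W.HasRightCalculusOfFractions]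

theorem exists_roof {A B : C} (φ : L.obj A ⟶ L.obj B) :
    ∃ (A' : C) (s : A' ⟶ A) (_ : W s) (a : A' ⟶ B), L.map s ≫ φ = L.map a := by
  obtain ⟨z, rfl⟩ := Localization.exists_rightFraction L W φ
  exact ⟨z.X', z.s, z.hs, z.f, z.map_s_comp_map L (Localization.inverts L W)⟩

theorem exists_roof₂ {A B B' : C} (φ : L.obj A ⟶ L.obj B) (φ' : L.obj A ⟶ L.obj B') :
    ∃ (A' : C) (s : A' ⟶ A) (_ : W s) (a : A' ⟶ B) (a' : A' ⟶ B'),
      L.map s ≫ φ = L.map a ∧ L.map s ≫ φ' = L.map a' := by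
  obtain ⟨A₁, s, hs, a, ha⟩ := exists_roof L W φ
  obtain ⟨A₂, t, ht, a', ha'⟩ := exists_roof L W (L.map s ≫ φ')
  exact ⟨A₂, t ≫ s, W.comp_mem t s ht hs, t ≫ a, a', by rw [L.map_comp, Category.assoc, ha, L.map_comp],
    by rw [L.map_comp, Category.assoc, ha']⟩

variable {L W} {Y T X P : C} {pT : Y ⟶ T} {pX : Y ⟶ X} {g : T ⟶ P} {f : X ⟶ P}

/-- a square becomes cartesian in the localization if it is cartesian up to refinement -/
theorem isPullback_map (w : pT ≫ g = pX ≫ f)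
    (hex : ∀ (W' : C) (a : W' ⟶ T) (b : W' ⟶ X), a ≫ g = b ≫ f →
      ∃ (W₂ : C) (σ : W₂ ⟶ W') (_ : W σ) (h : W₂ ⟶ Y), h ≫ pT = σ ≫ a ∧ h ≫ pX = σ ≫ b)
    (huniq : ∀ (W' : C) (h₁ h₂ : W' ⟶ Y), h₁ ≫ pT = h₂ ≫ pT → h₁ ≫ pX = h₂ ≫ pX → h₁ = h₂) :
    IsPullback (L.map pT) (L.map pX) (L.map g) (L.map f) := by
  haveI : L.EssSurj := Localization.essSurj L W
  have uniq : ∀ (A : C) (φ₁ φ₂ : L.obj A ⟶ L.obj Y), φ₁ ≫ L.map pT = φ₂ ≫ L.map pT →
      φ₁ ≫ L.map pX = φ₂ ≫ L.map pX → φ₁ = φ₂ := by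
    intro A φ₁ φ₂ h1 h2
    obtain ⟨A₁, s, hs, a₁, a₂, e1, e2⟩ := exists_roof₂ L W φ₁ φ₂
    haveI := Localization.inverts L W s hs
    have k1 : L.map (a₁ ≫ pT) = L.map (a₂ ≫ pT) := by
      rw [L.map_comp, L.map_comp, ← e1, ← e2, Category.assoc, h1, Category.assoc]
    obtain ⟨A₂, t, ht, et⟩ := (MorphismProperty.map_eq_iff_precomp L W _ _).1 k1
    have k2 : L.map (t ≫ a₁ ≫ pX) = L.map (t ≫ a₂ ≫ pX) := by
      simp only [L.map_comp]
      rw [← reassoc_of% e1, ← reassoc_of% e2, h2]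
    obtain ⟨A₃, r, hr, er⟩ := (MorphismProperty.map_eq_iff_precomp L W _ _).1 k2
    have hh := huniq A₃ (r ≫ t ≫ a₁) (r ≫ t ≫ a₂)
      (by simp only [Category.assoc]; rw [et]) (by simpa only [Category.assoc] using er)
    haveI := Localization.inverts L W t ht
    haveI := Localization.inverts L W r hr
    rw [← cancel_epi (L.map s), e1, e2, ← cancel_epi (L.map t), ← cancel_epi (L.map r)]
    simp only [← L.map_comp, hh]
  have ex : ∀ (A : C) (u : L.obj A ⟶ L.obj T) (v : L.obj A ⟶ L.obj X), u ≫ L.map g = v ≫ L.map f →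
      ∃ φ : L.obj A ⟶ L.obj Y, φ ≫ L.map pT = u ∧ φ ≫ L.map pX = v := by
    intro A u v huv
    obtain ⟨A₁, s, hs, a, b, ea, eb⟩ := exists_roof₂ L W u v
    haveI := Localization.inverts L W s hs
    have k : L.map (a ≫ g) = L.map (b ≫ f) := by
      rw [L.map_comp, L.map_comp, ← ea, ← eb, Category.assoc, huv, Category.assoc]
    obtain ⟨A₂, t, ht, et⟩ := (MorphismProperty.map_eq_iff_precomp L W _ _).1 k
    obtain ⟨A₃, σ, hσ, h, e1, e2⟩ := hex A₂ (t ≫ a) (t ≫ b) (by simpa using et)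
    haveI := Localization.inverts L W t ht
    haveI := Localization.inverts L W σ hσ
    refine ⟨inv (L.map s) ≫ inv (L.map t) ≫ inv (L.map σ) ≫ L.map h, ?_, ?_⟩
    · simp only [Category.assoc, IsIso.inv_comp_eq, ← L.map_comp, e1]
      simp only [L.map_comp, ea]
    · simp only [Category.assoc, IsIso.inv_comp_eq, ← L.map_comp, e2]
      simp only [L.map_comp, eb]
  have ex' : ∀ c : PullbackCone (L.map g) (L.map f), ∃ φ : c.pt ⟶ L.obj Y,
      φ ≫ L.map pT = c.fst ∧ φ ≫ L.map pX = c.snd ∧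
        ∀ m : c.pt ⟶ L.obj Y, m ≫ L.map pT = c.fst → m ≫ L.map pX = c.snd → m = φ := by
    intro c
    let e := L.objObjPreimageIso c.pt
    obtain ⟨φ, h1, h2⟩ := ex _ (e.hom ≫ c.fst) (e.hom ≫ c.snd)
      (by rw [Category.assoc, Category.assoc, c.condition])
    refine ⟨e.inv ≫ φ, by rw [Category.assoc, h1, e.inv_hom_id_assoc],
      by rw [Category.assoc, h2, e.inv_hom_id_assoc], fun m k1 k2 => ?_⟩
    rw [← cancel_epi e.hom, e.hom_inv_id_assoc]
    exact uniq _ _ _ (by rw [Category.assoc, k1, h1]) (by rw [Category.assoc, k2, h2])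
  choose l l1 l2 l3 using ex'
  exact ⟨⟨by rw [← L.map_comp, w, L.map_comp]⟩, ⟨PullbackCone.IsLimit.mk _ l l1 l2 l3⟩⟩

end Groth.Agent.ModPairProd
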