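import Groth.Agent.ModPairProd.Square
import Mathlib.CategoryTheory.Limits.Constructions.LimitsOfProductsAndEqualizers
import Mathlib.AlgebraicGeometry.Limits

/-!
# Finite limits of modulus pairs up to admissible blow-ups
-/

set_option autoImplicit false
set_option backward.isDefEq.respectTransparency false
set_option linter.style.haveILetI false

universe u

open CategoryTheory AlgebraicGeometry Limits TopologicalSpace

namespace Groth.Agent.ModPairProd

open ModPairFrac BlowUpLib ModPair

/-- the terminal pair -/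
noncomputable def point : Pair.{u} :=
  ⟨Spec (CommRingCat.of (ULift.{u} ℤ)), ⊤, cartier_top⟩

/-- the map to the terminal pair -/
noncomputable def toPoint (P : Pair.{u}) : P ⟶ point.{u} :=
  ⟨specULiftZIsTerminal.from P.total, by
    show P.mod ≤ _
    exact le_top.trans_eq (Scheme.IdealSheafData.comap_top _).symm⟩

theorem toPoint_unique {P : Pair.{u}} (a : P ⟶ point.{u}) : a = toPoint P :=
  Pair.Hom.ext (specULiftZIsTerminal.hom_ext _ _)

theorem hasTerminal_loc : HasTerminal (Pair.admBlowup.{u}).Localization := by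
  haveI := hasRightCalculusOfFractions.{u}
  let L := (Pair.admBlowup.{u}).Q
  haveI : L.EssSurj := Localization.essSurj L Pair.admBlowup.{u}
  have huniq : ∀ (A : Pair.{u}) (φ : L.obj A ⟶ L.obj point.{u}), φ = L.map (toPoint A) := by
    intro A φ
    obtain ⟨A', s, hs, a, ha⟩ := exists_roof L Pair.admBlowup.{u} φ
    haveI := Localization.inverts L Pair.admBlowup.{u} s hs
    rw [← cancel_epi (L.map s), ha, ← L.map_comp, toPoint_unique a, toPoint_unique (s ≫ toPoint A)]
  exact (IsTerminal.ofUniqueHom (fun D => (L.objObjPreimageIso D).inv ≫ L.map (toPoint _))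
    (fun D m => (Iso.eq_inv_comp _).2 (huniq _ _)) : IsTerminal (L.obj point.{u})).hasTerminal

theorem hasPullback_map {P T X : Pair.{u}} (f : X ⟶ P) (g : T ⟶ P) :
    HasPullback ((Pair.admBlowup.{u}).Q.map g) ((Pair.admBlowup.{u}).Q.map f) := by
  obtain ⟨Y, π, K, hY⟩ := exists_ambProd f.hom g.hom T.isEffCartier X.isEffCartier
  obtain ⟨hK, hX, hT, -⟩ := ambProd_props f.hom g.hom X.mod T.mod π K X.isEffCartier T.isEffCartier hY
  exact (isPullback_ambProd P T X f g π K hY hK hX hT).hasPullback

theorem hasPullbacks_loc : HasPullbacks (Pair.admBlowup.{u}).Localization := by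
  haveI := hasRightCalculusOfFractions.{u}
  let L := (Pair.admBlowup.{u}).Q
  haveI : L.EssSurj := Localization.essSurj L Pair.admBlowup.{u}
  refine @hasPullbacks_of_hasLimit_cospan (Pair.admBlowup.{u}).Localization _ fun {T' X' P'} {u v} => ?_
  let eT := L.objObjPreimageIso T'
  let eX := L.objObjPreimageIso X'
  let eP := L.objObjPreimageIso P'
  obtain ⟨T₁, s, hs, g, hg⟩ := exists_roof L Pair.admBlowup.{u} (eT.hom ≫ u ≫ eP.inv)
  obtain ⟨X₁, t, ht, f, hf⟩ := exists_roof L Pair.admBlowup.{u} (eX.hom ≫ v ≫ eP.inv)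
  haveI := Localization.inverts L Pair.admBlowup.{u} s hs
  haveI := Localization.inverts L Pair.admBlowup.{u} t ht
  haveI := hasPullback_map f g
  have e : cospan (L.map g) (L.map f) ≅ cospan u v :=
    cospanExt (asIso (L.map s) ≪≫ eT) (asIso (L.map t) ≪≫ eX) eP
      (by simp [← hg]) (by simp [← hf])
  exact hasLimit_of_iso e

theorem hasFiniteLimits_loc : HasFiniteLimits (Pair.admBlowup.{u}).Localization := by
  haveI := hasTerminal_loc.{u}
  haveI := hasPullbacks_loc.{u}
  exact hasFiniteLimits_of_hasTerminal_and_pullbacks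

end Groth.Agent.ModPairProd
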