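import Groth.Agent.ModPairProd.Adm
import Groth.Agent.ModPairCoprod.Basic

/-!
# Splitting a modulus pair along a decomposition of the interior
-/

set_option autoImplicit false
set_option backward.isDefEq.respectTransparency false
set_option linter.style.haveILetI false

universe u

open CategoryTheory AlgebraicGeometry Limits TopologicalSpace

namespace Groth.Agent.ModPairProd

open ModPairFrac BlowUpLib ModPair

variable {X A B : Scheme.{u}}

theorem isIso_restrict_desc (a : A ⟶ X) (b : B ⟶ X) (U : X.Opens) (ha : IsIso (a ∣_ U))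
    (hb : ∀ y, b y ∉ U) (W : X.Opens) (hW : W = U) : IsIso (coprod.desc a b ∣_ W) := by
  subst hW
  let p := coprod.desc a b
  have hr : Set.range ((a ⁻¹ᵁ W).ι ≫ coprod.inl (Y := B)) = Set.range (p ⁻¹ᵁ W).ι := by
    rw [Scheme.Opens.range_ι]
    ext z
    constructor
    · rintro ⟨x, rfl⟩
      show p (((a ⁻¹ᵁ W).ι ≫ coprod.inl) x) ∈ W
      rw [← Scheme.Hom.comp_apply, Category.assoc, coprod.inl_desc]
      exact x.2
    · intro hz
      obtain ⟨(y | y), rfl⟩ := (coprodMk A B).surjective z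
      · have hy : y ∈ a ⁻¹ᵁ W := by
          have : p (coprod.inl (X := A) (Y := B) y) ∈ W := by rw [← coprodMk_inl]; exact hz
          rwa [← Scheme.Hom.comp_apply, coprod.inl_desc] at this
        exact ⟨⟨y, hy⟩, (coprodMk_inl _ _ y).symm⟩
      · have : p (coprod.inr (X := A) (Y := B) y) ∈ W := by rw [← coprodMk_inr]; exact hz
        rw [← Scheme.Hom.comp_apply, coprod.inr_desc] at this
        exact absurd this (hb y)
  let e := IsOpenImmersion.isoOfRangeEq _ _ hr
  have h : e.hom ≫ (p ∣_ W) = a ∣_ W := by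
    rw [← cancel_mono W.ι, Category.assoc, morphismRestrict_ι, morphismRestrict_ι,
      IsOpenImmersion.isoOfRangeEq_hom_fac_assoc, Category.assoc, coprod.inl_desc]
  exact (show (p ∣_ W) = e.inv ≫ (a ∣_ W) by rw [← h, e.inv_hom_id_assoc]) ▸ inferInstance

theorem isIso_restrict_desc' (a : A ⟶ X) (b : B ⟶ X) (U : X.Opens) (hb : IsIso (b ∣_ U))
    (ha : ∀ y, a y ∉ U) : IsIso (coprod.desc a b ∣_ U) := by
  have h := isIso_restrict_desc b a U hb ha U rfl
  let β : A ⨿ B ⟶ B ⨿ A := coprod.desc coprod.inr coprod.inl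
  haveI : IsIso β := ⟨coprod.desc coprod.inr coprod.inl, by ext <;> simp [β], by ext <;> simp [β]⟩
  have e : coprod.desc a b = β ≫ coprod.desc b a := by
    apply coprod.hom_ext <;> simp [β]
  rw [e, morphismRestrict_comp]
  haveI : IsIso (β ∣_ coprod.desc b a ⁻¹ᵁ U) := (MorphismProperty.isomorphisms Scheme.{u}).of_isPullback
    (isPullback_morphismRestrict β _).flip (inferInstanceAs (IsIso β))
  exact IsIso.comp_isIso

theorem isIso_restrict_restrict {Y : Scheme.{u}} (p : Y ⟶ X) {O V : X.Opens} (hV : V ≤ O)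
    (h : IsIso (p ∣_ V)) : IsIso (p ∣_ O ∣_ (O.ι ⁻¹ᵁ V)) := by
  have e : O.ι ''ᵁ (O.ι ⁻¹ᵁ V) = V := by
    rw [Scheme.Hom.image_preimage_eq_opensRange_inf, Scheme.Opens.opensRange_ι, inf_eq_right.2 hV]
  exact ((MorphismProperty.isomorphisms Scheme.{u}).arrow_mk_iso_iff
    (morphismRestrictRestrict p O (O.ι ⁻¹ᵁ V) ≪≫ morphismRestrictEq p e)).2 h

theorem isProper_desc (a : A ⟶ X) (b : B ⟶ X) [IsClosedImmersion a] [IsClosedImmersion b] :
    IsProper (coprod.desc a b) := by
  haveI : IsFinite (coprod.desc a b) := inferInstance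
  infer_instance

theorem split_adm (I : X.IdealSheafData) (hI : BlowUp.IsEffCartierIdeal I) (U₀ U₁ : X.Opens)
    (hU : U₀ ⊔ U₁ = interior I) (hd : Disjoint U₀ U₁) :
    BlowUp.IsEffCartierIdeal (I.comap (coprod.desc U₀.ι.imageι U₁.ι.imageι)) ∧
      IsAdmBlowup (I.comap (coprod.desc U₀.ι.imageι U₁.ι.imageι)) I
        (coprod.desc U₀.ι.imageι U₁.ι.imageι) := by
  let p := coprod.desc U₀.ι.imageι U₁.ι.imageι
  haveI := quasiCompact_part I hI U₀ U₁ hU hd
  haveI := quasiCompact_part I hI U₁ U₀ (sup_comm U₁ U₀ ▸ hU) hd.symm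
  refine ⟨?_, rfl, isProper_desc _ _, ?_⟩
  · refine ModPairCoprod.cartier_of_cover (coprodOpenCover.{u, u} _ _) fun i => ?_
    rw [← Scheme.IdealSheafData.comap_comp]
    rcases i with i | i
    · show BlowUp.IsEffCartierIdeal (I.comap (coprod.inl ≫ coprod.desc U₀.ι.imageι U₁.ι.imageι))
      rw [coprod.inl_desc]
      exact cartier_image I hI U₀ (hU ▸ le_sup_left)
    · show BlowUp.IsEffCartierIdeal (I.comap (coprod.inr ≫ coprod.desc U₀.ι.imageι U₁.ι.imageι))
      rw [coprod.inr_desc]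
      exact cartier_image I hI U₁ (hU ▸ le_sup_right)
  · let O := interior I
    have h0 : IsIso (p ∣_ U₀) := isIso_restrict_desc _ _ U₀
      (isIso_restrict _ _ _ (Scheme.Hom.toImage_imageι _)) (image_disjoint hd.symm) U₀ rfl
    have h1 : IsIso (p ∣_ U₁) := isIso_restrict_desc' _ _ U₁
      (isIso_restrict _ _ _ (Scheme.Hom.toImage_imageι _)) (image_disjoint hd)
    refine (IsZariskiLocalAtTarget.iff_of_iSup_eq_top (P := MorphismProperty.isomorphisms Scheme)
      (f := p ∣_ O) (fun i : Bool => O.ι ⁻¹ᵁ (if i then U₀ else U₁)) ?_).2 fun i => ?_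
    · rw [eq_top_iff]
      rintro x -
      rcases (hU ▸ x.2 : x.1 ∈ U₀ ⊔ U₁) with h | h
      · exact Opens.mem_iSup.2 ⟨true, h⟩
      · exact Opens.mem_iSup.2 ⟨false, h⟩
    · cases i
      · exact isIso_restrict_restrict (V := U₁) p (le_sup_right.trans hU.le) h1
      · exact isIso_restrict_restrict (V := U₀) p (le_sup_left.trans hU.le) h0

end Groth.Agent.ModPairProd
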