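import Groth.Agent.ModPairProd.Exist
import Groth.Agent.ModPairProd.Frac
import Groth.Agent.ModPairFrac.Basic

/-!
# Ambient products are fibre products of modulus pairs up to admissible blow-ups
-/

set_option autoImplicit false
set_option backward.isDefEq.respectTransparency false
set_option linter.style.haveILetI false

universe u

open CategoryTheory AlgebraicGeometry Limits TopologicalSpace

namespace Groth.Agent.ModPairProd

open ModPairFrac BlowUpLib ModPair

variable {X : Scheme.{u}}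

theorem le_support_compl {I J : X.IdealSheafData} (h : I ≤ J) : interior I ≤ interior J :=
  fun _ hx hx' => hx (Scheme.IdealSheafData.support_antitone h hx')

/-- refine a pair so that the sum of two larger moduli becomes effective Cartier -/
theorem exists_refine (W : Pair.{u}) (A B : W.total.IdealSheafData) (hA : BlowUp.IsEffCartierIdeal A)
    (hB : BlowUp.IsEffCartierIdeal B) (hWA : W.mod ≤ A) :
    ∃ (W₂ : Pair.{u}) (σ : W₂ ⟶ W), Pair.admBlowup σ ∧
      BlowUp.IsEffCartierIdeal ((A ⊔ B).comap σ.hom) := by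
  obtain ⟨Z, σ, hσ⟩ := BlowUpExist.exists_isBlowUp W.total (A ⊔ B)
  refine ⟨⟨Z, W.mod.comap σ, cartier_comap_blowUp hσ W.isEffCartier⟩, ⟨σ, le_rfl⟩, ⟨rfl, ?_, ?_⟩, hσ.1⟩
  · exact BlowUpExist.isProper_of_isBlowUp hσ (locallyFG_sup hA hB)
  · let O : W.total.Opens := (A ⊔ B).support.compl
    let V := interior W.mod
    have hV : V ≤ O := le_support_compl (hWA.trans le_sup_left)
    haveI := BlowUpLib.isIso_restrict hσ
    have e : O.ι ''ᵁ (O.ι ⁻¹ᵁ V) = V := by
      rw [Scheme.Hom.image_preimage_eq_opensRange_inf, Scheme.Opens.opensRange_ι, inf_eq_right.2 hV]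
    refine ((MorphismProperty.isomorphisms Scheme.{u}).arrow_mk_iso_iff
      (morphismRestrictRestrict σ O (O.ι ⁻¹ᵁ V) ≪≫ morphismRestrictEq σ e)).1 ?_
    exact (MorphismProperty.isomorphisms Scheme.{u}).of_isPullback
      (isPullback_morphismRestrict (σ ∣_ O) (O.ι ⁻¹ᵁ V)).flip ‹IsIso (σ ∣_ O)›

theorem le_lcm {A B K D : X.IdealSheafData} (hA : BlowUp.IsEffCartierIdeal A)
    (hB : BlowUp.IsEffCartierIdeal B) (hD : BlowUp.IsEffCartierIdeal D) (hE : BlowUp.IsEffCartierIdeal (A ⊔ B))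
    (hK : K * (A ⊔ B) = A * B) (h₁ : D ≤ A) (h₂ : D ≤ B) : D ≤ K := by
  obtain ⟨A', B', -, -, eA, eB, -, h⟩ := exists_quotient hA hB hE
  refine (h D hD h₁ h₂).trans (le_of_eq (mul_cancel hE ?_))
  refine Scheme.IdealSheafData.ext ?_
  funext U
  have e1 := congrArg (fun K : X.IdealSheafData => K.ideal U) eA
  have e2 := congrArg (fun K : X.IdealSheafData => K.ideal U) eB
  have e3 := congrArg (fun K : X.IdealSheafData => K.ideal U) hK
  simp only [Scheme.IdealSheafData.ideal_mul, Pi.mul_apply] at e1 e2 e3 ⊢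
  rw [e3]
  conv_rhs => rw [e1, e2]
  ring

theorem isPullback_ambProd (P T X : Pair.{u}) (f : X ⟶ P) (g : T ⟶ P) {Y : Scheme.{u}}
    (π : Y ⟶ mprod f.hom g.hom X.mod T.mod) (K : Y.IdealSheafData)
    (hY : IsAmbProd f.hom g.hom X.mod T.mod π K) (hK : BlowUp.IsEffCartierIdeal K)
    (hX : IsAmbient K X.mod (π ≫ mprodι f.hom g.hom X.mod T.mod ≫ pullback.fst f.hom g.hom))
    (hT : IsAmbient K T.mod (π ≫ mprodι f.hom g.hom X.mod T.mod ≫ pullback.snd f.hom g.hom)) :
    IsPullback
      ((Pair.admBlowup.{u}).Q.map (Pair.Hom.mk (P := Pair.mk Y K hK) (Q := T)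
        (π ≫ mprodι f.hom g.hom X.mod T.mod ≫ pullback.snd f.hom g.hom) hT))
      ((Pair.admBlowup.{u}).Q.map (Pair.Hom.mk (P := Pair.mk Y K hK) (Q := X)
        (π ≫ mprodι f.hom g.hom X.mod T.mod ≫ pullback.fst f.hom g.hom) hX))
      ((Pair.admBlowup.{u}).Q.map g) ((Pair.admBlowup.{u}).Q.map f) := by
  haveI := hasRightCalculusOfFractions.{u}
  refine isPullback_map (W := Pair.admBlowup.{u}) ?_ ?_ ?_
  · refine Pair.Hom.ext ?_
    show (π ≫ _ ≫ pullback.snd f.hom g.hom) ≫ g.hom = (π ≫ _ ≫ pullback.fst f.hom g.hom) ≫ f.hom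
    simp only [Category.assoc, pullback.condition]
  · intro W a b hab
    have hA := cartier_comap_of_ambient W.isEffCartier X.isEffCartier b.cond
    have hB := cartier_comap_of_ambient W.isEffCartier T.isEffCartier a.cond
    obtain ⟨W₂, σ, hσ, hE⟩ := exists_refine W _ _ hA hB b.cond
    let b₂ : W₂ ⟶ X := σ ≫ b
    let a₂ : W₂ ⟶ T := σ ≫ a
    have w₂ : b₂.hom ≫ f.hom = a₂.hom ≫ g.hom :=
      congrArg Pair.Hom.hom (show b₂ ≫ f = a₂ ≫ g by simp [a₂, b₂, hab])
    have hA₂ := cartier_comap_of_ambient W₂.isEffCartier X.isEffCartier b₂.cond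
    have hB₂ := cartier_comap_of_ambient W₂.isEffCartier T.isEffCartier a₂.cond
    obtain ⟨c, hc⟩ := exists_lift_mprod f.hom g.hom X.mod T.mod (pullback.lift b₂.hom a₂.hom w₂)
      (by rw [pullback.lift_fst]; exact hA₂) (by rw [pullback.lift_snd]; exact hB₂)
    have eA : (X.mod.comap (mprodι f.hom g.hom X.mod T.mod ≫ pullback.fst f.hom g.hom)).comap c =
        X.mod.comap b₂.hom := by
      rw [← Scheme.IdealSheafData.comap_comp, reassoc_of% hc, pullback.lift_fst]
    have eB : (T.mod.comap (mprodι f.hom g.hom X.mod T.mod ≫ pullback.snd f.hom g.hom)).comap c =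
        T.mod.comap a₂.hom := by
      rw [← Scheme.IdealSheafData.comap_comp, reassoc_of% hc, pullback.lift_snd]
    have hE₂ : BlowUp.IsEffCartierIdeal (X.mod.comap b₂.hom ⊔ T.mod.comap a₂.hom) := by
      have : X.mod.comap b₂.hom ⊔ T.mod.comap a₂.hom =
          (X.mod.comap b.hom ⊔ T.mod.comap a.hom).comap σ.hom := by
        rw [Scheme.IdealSheafData.comap_sup, ← Scheme.IdealSheafData.comap_comp,
          ← Scheme.IdealSheafData.comap_comp]
        rfl
      rw [this]
      exact hE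
    obtain ⟨l, hl, -⟩ := hY.1.2 W₂.total c (by
      rw [prodCentre, Scheme.IdealSheafData.comap_sup, eA, eB]; exact hE₂)
    have hKl : K.comap l * (X.mod.comap b₂.hom ⊔ T.mod.comap a₂.hom) =
        X.mod.comap b₂.hom * T.mod.comap a₂.hom := by
      have := congrArg (fun J => Scheme.IdealSheafData.comap J l) hY.2
      simp only [comap_mul] at this
      rw [← Scheme.IdealSheafData.comap_comp _ l π, ← Scheme.IdealSheafData.comap_comp _ l π,
        ← Scheme.IdealSheafData.comap_comp _ l π, hl, prodCentre,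
        Scheme.IdealSheafData.comap_sup, eA, eB] at this
      exact this
    refine ⟨W₂, σ, hσ, (⟨l, le_lcm hA₂ hB₂ W₂.isEffCartier hE₂ hKl b₂.cond a₂.cond⟩ :
      W₂ ⟶ Pair.mk Y K hK), Pair.Hom.ext ?_, Pair.Hom.ext ?_⟩
    · show l ≫ π ≫ _ ≫ pullback.snd f.hom g.hom = (σ ≫ a).hom
      rw [reassoc_of% hl, reassoc_of% hc, pullback.lift_snd]
    · show l ≫ π ≫ _ ≫ pullback.fst f.hom g.hom = (σ ≫ b).hom
      rw [reassoc_of% hl, reassoc_of% hc, pullback.lift_fst]
  · intro W h₁ h₂ eT eX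
    have kT := congrArg Pair.Hom.hom eT
    have kX := congrArg Pair.Hom.hom eX
    change h₁.hom ≫ π ≫ _ ≫ _ = h₂.hom ≫ π ≫ _ ≫ _ at kT kX
    have e : h₁.hom ≫ π = h₂.hom ≫ π := by
      rw [← cancel_mono (mprodι f.hom g.hom X.mod T.mod)]
      apply pullback.hom_ext <;> simpa only [Category.assoc]
    have hEc : BlowUp.IsEffCartierIdeal (((prodCentre f.hom g.hom X.mod T.mod).comap π).comap h₁.hom) := by
      refine cartier_comap_of_ambient W.isEffCartier hY.1.1
        ((h₁.cond).trans (Scheme.IdealSheafData.comap_mono _ ?_))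
      show K ≤ _
      refine le_trans ?_ (Scheme.IdealSheafData.comap_mono π
        (le_sup_left : X.mod.comap (mprodι f.hom g.hom X.mod T.mod ≫ pullback.fst f.hom g.hom) ≤ _))
      dsimp only
      rw [← Scheme.IdealSheafData.comap_comp]
      exact hX
    rw [← Scheme.IdealSheafData.comap_comp] at hEc
    exact Pair.Hom.ext ((hY.1.2 W.total _ hEc).unique rfl e.symm)

end Groth.Agent.ModPairProd
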